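import Mathlib.RingTheory.Henselian
import Mathlib.RingTheory.Localization.Away.Basic
import Mathlib.RingTheory.Idempotents
import Mathlib.Tactic.ComputeDegree
import Mathlib.Tactic.LinearCombination

/-! Idempotents of a localisation away from an element of the radical, and their behaviour under a map
which is bijective modulo every power of that element. -/

universe u v w z

namespace Groth.Agent.IdemAway

open Polynomial

variable {A : Type u} [CommRing A] {S : Type v} [CommRing S] {φ : A →+* S} {t : A}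
  {A' : Type w} [CommRing A'] [Algebra A A'] {S' : Type z} [CommRing S'] [Algebra S S']
  {ψ : A' →+* S'}

theorem eq_zero_of_cube {t : A} (ht : Ideal.span {t} ≤ Ideal.jacobson ⊥) {d : A'} (hd : d ^ 3 = d) (δ : A)
    (h : d = algebraMap A A' (t * δ)) : d = 0 := by
  have hu : IsUnit (algebraMap A A' (t * δ * -(t * δ) + 1)) :=
    (Ideal.mem_jacobson_bot.1 (ht (Ideal.mul_mem_right δ _ (Ideal.mem_span_singleton_self t))) _).map _
  refine hu.mul_right_eq_zero.1 ?_
  rw [map_add, map_one, map_mul _ (t * δ), map_neg, ← h]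
  linear_combination -hd

theorem idem_sub_cube {x y : A'} (hx : IsIdempotentElem x) (hy : IsIdempotentElem y) : (x - y) ^ 3 = x - y := by
  linear_combination (x + 1 - 3 * y) * hx.eq - (y + 1 - 3 * x) * hy.eq

variable [IsLocalization.Away t A'] [IsLocalization.Away (φ t) S']

theorem eq_of_map_eq (hψ : ∀ a, ψ (algebraMap A A' a) = algebraMap S S' (φ a))
    (ht : Ideal.span {t} ≤ Ideal.jacobson ⊥)
    (hinj : ∀ (M : ℕ) x, φ x ∈ Ideal.span {φ t ^ M} → x ∈ Ideal.span {t ^ M})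
    {e₀ e₁ : A'} (h₀ : IsIdempotentElem e₀) (h₁ : IsIdempotentElem e₁) (h : ψ e₀ = ψ e₁) : e₀ = e₁ := by
  obtain ⟨k, a, hd⟩ := IsLocalization.Away.surj (S := A') t (e₀ - e₁)
  have h0 : algebraMap S S' (φ a) = 0 := by
    rw [← hψ, ← hd, map_mul, map_sub, h, sub_self, zero_mul]
  obtain ⟨⟨_, j, rfl⟩, hj⟩ := (IsLocalization.map_eq_zero_iff (Submonoid.powers (φ t)) S' _).1 h0
  have hz : φ (t ^ j * a) = 0 := by rw [map_mul, map_pow]; exact hj
  obtain ⟨δ, hδ⟩ := Ideal.mem_span_singleton.1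
    (hinj (j + k + 1) (t ^ j * a) (by rw [hz]; exact Ideal.zero_mem _))
  have hu : IsUnit (algebraMap A A' t) := IsLocalization.Away.algebraMap_isUnit t
  refine sub_eq_zero.1 (eq_zero_of_cube ht (idem_sub_cube h₀ h₁) δ ?_)
  refine (hu.pow (j + k)).mul_left_cancel ?_
  have := congrArg (algebraMap A A') hδ
  simp only [map_mul, map_pow] at this hd ⊢
  rw [pow_add, mul_assoc, mul_comm (algebraMap A A' t ^ k), hd, this]
  ring

theorem exists_map_eq [HenselianRing A (Ideal.span {t})] (hψ : ∀ a, ψ (algebraMap A A' a) = algebraMap S S' (φ a))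
    (hjac : Ideal.span {φ t} ≤ Ideal.jacobson ⊥)
    (hinj : ∀ (M : ℕ) x, φ x ∈ Ideal.span {φ t ^ M} → x ∈ Ideal.span {t ^ M})
    (hsurj : ∀ (M : ℕ) s, ∃ a, s - φ a ∈ Ideal.span {φ t ^ M})
    {e : S'} (he : IsIdempotentElem e) : ∃ e₀ : A', IsIdempotentElem e₀ ∧ ψ e₀ = e := by
  have hu : IsUnit (algebraMap A A' t) := IsLocalization.Away.algebraMap_isUnit t
  have hu' : IsUnit (algebraMap S S' (φ t)) := IsLocalization.Away.algebraMap_isUnit (φ t)
  obtain ⟨m, s, hs⟩ := IsLocalization.Away.surj (S := S') (φ t) e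
  have h0 : algebraMap S S' (s * s - φ t ^ m * s) = 0 := by
    rw [map_sub, map_mul, map_mul, map_pow, ← hs]
    linear_combination (algebraMap S S' (φ t) ^ (2 * m)) * he.eq
  obtain ⟨⟨_, j, rfl⟩, hj⟩ := (IsLocalization.map_eq_zero_iff (Submonoid.powers (φ t)) S' _).1 h0
  change φ t ^ j * (s * s - φ t ^ m * s) = 0 at hj
  obtain ⟨a, ha⟩ := hsurj (j + 3 * m + 1) s
  obtain ⟨σ, hσ⟩ := Ideal.mem_span_singleton'.1 ha
  have hs' : φ a = s - σ * φ t ^ (j + 3 * m + 1) := by rw [hσ]; ring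
  obtain ⟨c, hc⟩ := Ideal.mem_span_singleton'.1 (hinj (j + 3 * m + 1) (t ^ j * (a * a - t ^ m * a))
    (Ideal.mem_span_singleton'.2 ⟨φ t ^ j * σ * (φ t ^ m - 2 * s + σ * φ t ^ (j + 3 * m + 1)), by
      simp only [map_mul, map_sub, map_pow, hs']
      linear_combination -hj⟩))
  obtain ⟨ti, hti⟩ := hu.exists_right_inv
  obtain ⟨x₀, hx₀⟩ : ∃ x₀, x₀ = algebraMap A A' a * ti ^ m := ⟨_, rfl⟩
  obtain ⟨w, hw⟩ : ∃ w, w = t ^ (m + 1) * c := ⟨_, rfl⟩
  have hx0t : algebraMap A A' t ^ m * x₀ = algebraMap A A' a := by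
    rw [hx₀, mul_left_comm, ← mul_pow, hti, one_pow, mul_one]
  have hwA : x₀ * x₀ - x₀ = algebraMap A A' w := by
    refine (hu.pow (j + 2 * m)).mul_left_cancel ?_
    have := congrArg (algebraMap A A') hc
    simp only [map_mul, map_sub, map_pow] at this
    simp only [hw, map_mul, map_pow]
    rw [← hx0t] at this
    linear_combination -this
  have hwmem : w ∈ Ideal.span {t} := by
    rw [hw, pow_succ', mul_assoc]; exact Ideal.mul_mem_right _ _ (Ideal.mem_span_singleton_self t)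
  obtain ⟨q, hq⟩ : IsUnit (w * 4 + 1) :=
    Ideal.mem_jacobson_bot.1 (HenselianRing.jac (I := Ideal.span {t}) hwmem) 4
  obtain ⟨b, hb⟩ : ∃ b, b = w * ↑q⁻¹ := ⟨_, rfl⟩
  have hbmem : b ∈ Ideal.span {t} := hb ▸ Ideal.mul_mem_right _ _ hwmem
  obtain ⟨y, hy, hy0⟩ := HenselianRing.is_henselian (I := Ideal.span {t}) (X ^ 2 + X + C b : A[X])
    (by monicity!) 0 (by simpa using hbmem) (by simp)
  rw [IsRoot, eval_add, eval_add, eval_pow, eval_X, eval_C] at hy
  rw [sub_zero] at hy0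
  obtain ⟨r, hr⟩ : IsUnit (y * 1 + 1) := Ideal.mem_jacobson_bot.1 (HenselianRing.jac (I := Ideal.span {t}) hy0) 1
  have hyt : ∃ γ, y = t ^ (m + 1) * γ := ⟨-(c * ↑q⁻¹ * ↑r⁻¹), by
    have h1 : y * (r : A) = -b := by rw [hr]; linear_combination hy
    calc y = y * (r : A) * ↑r⁻¹ := by rw [Units.mul_inv_cancel_right]
      _ = _ := by rw [h1, hb, hw]; ring⟩
  obtain ⟨γ, hγ⟩ := hyt
  have hid : IsIdempotentElem (x₀ + (2 * x₀ - 1) * algebraMap A A' y) := by
    have hqb : (q : A) * b = w := by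
      rw [hb, mul_left_comm, Units.mul_inv, mul_one]
    have h1 : w + (w * 4 + 1) * (y * y + y) = 0 := by
      rw [← hq]
      linear_combination (q : A) * hy - hqb
    have h2 := congrArg (algebraMap A A') h1
    simp only [map_add, map_mul, map_zero, map_one, map_ofNat, ← hwA] at h2
    show _ * _ = _
    linear_combination h2
  refine ⟨x₀ + (2 * x₀ - 1) * algebraMap A A' y, hid, ?_⟩
  refine sub_eq_zero.1 (eq_zero_of_cube hjac (idem_sub_cube (hid.map ψ) he)
    (-σ * φ t ^ (j + 2 * m) + (2 * φ a - φ t ^ m) * φ γ) ?_)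
  refine (hu'.pow m).mul_left_cancel ?_
  have h1 : algebraMap S S' (φ t) ^ m * ψ x₀ = algebraMap S S' (φ a) := by
    rw [← hψ a, ← hx0t, map_mul, map_pow, hψ]
  simp only [map_add, map_mul, map_sub, map_one, map_pow, map_ofNat, map_neg, hψ, hγ]
  rw [hs'] at h1 ⊢
  simp only [map_sub, map_mul, map_pow] at h1 ⊢
  linear_combination (1 + 2 * (algebraMap S S' (φ t) ^ (m + 1) * algebraMap S S' (φ γ))) * h1 - hs

end Groth.Agent.IdemAway
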